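import Cfsg.Agent.Ld.T1
import Cfsg.Agent.BN.TwComb
import Cfsg.Agent.As.A

/-! Standard subgroups of type `D₄(2)`: data. -/

set_option autoImplicit false

namespace CF.Oe

open Cfsg Cfsg.Lie Subgroup CF.Chev CF.Ld CF.Loc CF.LX CF.J4 CF.Comp CF.Dce
open CF.BN (cD4)
open scoped commutatorElement

/-- the matrix of a root element on the natural module (and a fixed ninth coordinate) -/
def tb (r : Fin 24) : ℕ := fld 81 0x80208822008020080200c010840108401004010060090200802009020080300441004011040100401802808020080200a0200c01804010040100401806008022088200802008030040140401005010040180200902009020080200c010060100401006010060080200c0200c020080300401005014040100401802008020080a0280200c010040100c0100c01006008020180200802018030040100401024010240180200802028020080a00c01004010040104411006008060080200802008070040101401004010040580200802008220080208c010040102401004010260080200802008420084300401004010040110441 r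

/-- the symmetries of the diagram: `0` identity, `1 = (3 4)`, `2 = (1 3)`, `3 = (1 4)`, `4`, `5` of order three -/
def pm (p : Fin 6) (r : Fin 24) : Fin 24 :=
  ⟨fld 5 0xbda917b2b383a4d515272096830c20bda358368f9b9922ad2440d4711820bda347b2b09b9b22a9243896819820bdab1836937ba4c5952820d4730820bda959ca2f8398d52d27418a410c20bdab49ca307b9ac5a928398a418820 (24 * p + r) % 24, Nat.mod_lt _ (by decide)⟩

/-- the matrix of a word -/
noncomputable def wk (w : List (Fin 24)) : ℕ := w.foldr (fun r a => mm 9 (tb r) a) (mo 9)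

/-- the sublist chosen by the bits of `a` -/
def bw : List (Fin 24) → ℕ → List (Fin 24)
  | [], _ => []
  | r :: L, a => if a % 2 = 1 then r :: bw L (a / 2) else bw L (a / 2)

/-- the six elements of a fundamental subgroup -/
def sw (r s : Fin 24) (b : ℕ) : List (Fin 24) := [[], [r], [s], [r, s], [s, r], [r, s, r]].getD b []

/-- words for `Q` (`a < 512`), its Levi complement (`b < 216`), `U` (`a < 4096`) and `E` (`a < 64`) -/
def qw (a : ℕ) : List (Fin 24) := bw [14, 15, 16, 17, 19, 20, 21, 22, 23] a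
def lw (b : ℕ) : List (Fin 24) := sw 18 5 (b % 6) ++ sw 13 10 (b / 6 % 6) ++ sw 12 11 (b / 36)
def uw (a : ℕ) : List (Fin 24) := bw [12, 13, 14, 15, 16, 17, 18, 19, 20, 21, 22, 23] a
def ew (a : ℕ) : List (Fin 24) := bw [18, 19, 20, 21, 22, 23] a

variable {G : Type*} [Group G]

/-- the value of a word -/
def wd (x : Fin 24 → G) (w : List (Fin 24)) : G := (w.map x).prod

/-- generated by the listed root elements -/
def Us (x : Fin 24 → G) (S : List (Fin 24)) : Subgroup G := closure (x '' {r | r ∈ S})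

/-- generated by all root elements -/
def Lx (x : Fin 24 → G) : Subgroup G := closure (Set.range x)

abbrev Ux (x : Fin 24 → G) : Subgroup G := Us x [12, 13, 14, 15, 16, 17, 18, 19, 20, 21, 22, 23]
abbrev Qx (x : Fin 24 → G) : Subgroup G := Us x [14, 15, 16, 17, 19, 20, 21, 22, 23]
abbrev Ex (x : Fin 24 → G) : Subgroup G := Us x [18, 19, 20, 21, 22, 23]
abbrev Dx (x : Fin 24 → G) : Subgroup G := Us x [19, 20, 21, 22, 23]
/-- the centraliser of `x 23` -/
abbrev Yx (x : Fin 24 → G) : Subgroup G := Us x [5, 10, 11, 12, 13, 14, 15, 16, 17, 18, 19, 20, 21, 22, 23]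

/-- the root elements -/
def RT (x : Fin 24 → G) : Set G := {g | Cj (Lx x) (x 23) g}

/-- a frame: root elements of a group of type `D₄(2)` -/
structure Fm (x : Fin 24 → G) : Prop where
  sq : ∀ r, x r * x r = 1
  cm : ∀ r s, 0 ≤ cD4.A r s → Commute (x r) (x s)
  cmm : ∀ r s v, cD4.vec v = cD4.vec r + cD4.vec s → ⁅x r, x s⁆ = x v
  ne : x 23 ≠ 1

/-- a faithful matrix code for `Lx x` -/
structure Kd (x : Fin 24 → G) (κ : G → ℕ) : Prop where
  mul : ∀ a ∈ Lx x, ∀ b ∈ Lx x, κ (a * b) = mm 9 (κ a) (κ b)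
  inj : ∀ a ∈ Lx x, ∀ b ∈ Lx x, κ a = κ b → a = b
  lt : ∀ a, κ a < 2 ^ (9 * 9)
  kw : ∀ w, κ (wd x w) = wk w

/-- `n` acts as the symmetry `p` followed by `m` -/
def Act (x : Fin 24 → G) (n m : G) (p : Fin 6) : Prop := ∀ r, n * x r * n⁻¹ = m * x (pm p r) * m⁻¹

/-- the standard subgroup with its involution -/
structure St (E : Subgroup G) (x : Fin 24 → G) (t : G) : Prop extends Fm x, Fr E (Lx x) t

/-- the involution moving `t` to `t z` -/
structure J2 (x : Fin 24 → G) (t j : G) : Prop where
  r2 : ∀ y ∈ 𝐂(Lx x), CF.BG.PiElt {2} y → y * t = t * y → y = 1 ∨ y = t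
  jj : j * j = 1
  tj : j * t * j = t * x 23
  jQ : j ∈ 𝐂(Qx x)
  oj : ∀ o ∈ 𝐂(Lx x), Odd (orderOf o) → o * t = t * o → Commute o j

/-- the doubled group -/
def G0 (x : Fin 24 → G) (j : G) : Subgroup G := Lx x ⊔ zpowers j

/-- what the two endgames of the doubling know -/
structure EG (E G₀ : Subgroup G) (x : Fin 24 → G) (t : G) : Prop extends St E x t where
  r2 : ∀ y ∈ 𝐂(Lx x), CF.BG.PiElt {2} y → y * t = t * y → y = 1 ∨ y = t
  LG : Lx x ≤ G₀
  GE : G₀ ≤ E
  nG : 𝐂₁(t) ≤ 𝐍(G₀)

/-- the conjugate of `d` belonging to `x 22` -/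
def dw (x : Fin 24 → G) (d : G) : G := wd x [14, 9, 14] * d * wd x [14, 9, 14]

/-- the extraspecial group of order `2 ^ 11` -/
def Qh (x : Fin 24 → G) (t d : G) : Subgroup G := Qx x ⊔ zpowers t ⊔ zpowers d

/-- the relations of the Fischer case -/
structure J4 (x : Fin 24 → G) (t d : G) : Prop extends J2 x t d where
  dl : ∀ r, cD4.A 23 r = 0 → d * x r * d = x r * x 23
  cw : Commute d (dw x d)
  rw : dw x d * x 14 * dw x d = x 14 * d * wd x [17, 20, 21]

end CF.Oe
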